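import Groth.Agent.L15.FinSub.Poly
import Groth.Prelude.Def_AlgGrp
import Mathlib.AlgebraicGeometry.Morphisms.Finite
import Mathlib.AlgebraicGeometry.Morphisms.Flat
import Mathlib.AlgebraicGeometry.Morphisms.UnderlyingMap
import Mathlib.Algebra.Category.Ring.Epi
import Mathlib.RingTheory.DedekindDomain.Basic
import Mathlib.RingTheory.Flat.TorsionFree

/-! Points of affine schemes over a field, and criteria for endomorphisms of groups. -/

set_option autoImplicit false

universe u

open CategoryTheory CategoryTheory.Limits MonoidalCategory CartesianMonoidalCategory MonObj AlgebraicGeometry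
  Opposite Polynomial

noncomputable section

namespace Groth.L15.FinSub

variable {K : Type u} [Field K]

/-- The constants. -/
def kmap (T : Over (Spec (CommRingCat.of K))) : K →+* Γ(T.left, ⊤) := ((Scheme.ΓSpecIso (CommRingCat.of K)).inv ≫ T.hom.appTop).hom

theorem kmap_natural {T T' : Over (Spec (CommRingCat.of K))} (g : T' ⟶ T) (x : K) : g.left.appTop (kmap T x) = kmap T' x := by
  show g.left.appTop (T.hom.appTop ((Scheme.ΓSpecIso (CommRingCat.of K)).inv x)) = _
  rw [← ConcreteCategory.comp_apply, ← Scheme.Hom.comp_appTop, Over.w g]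
  rfl

theorem comp_kmap {T T' : Over (Spec (CommRingCat.of K))} (g : T' ⟶ T) : g.left.appTop.hom.comp (kmap T) = kmap T' :=
  RingHom.ext (kmap_natural g)

theorem kmap_spec {R : Type u} [CommRing R] (φ : K →+* R) (x : K) :
    kmap (Over.mk (Spec.map (CommRingCat.ofHom φ))) x = (Scheme.ΓSpecIso (CommRingCat.of R)).inv (φ x) :=
  congr($((Scheme.ΓSpecIso_inv_naturality (CommRingCat.ofHom φ)).symm) x)

theorem isoSpec_inv_appTop (X : Scheme.{u}) [IsAffine X] :
    X.isoSpec.inv.appTop = (Scheme.ΓSpecIso Γ(X, ⊤)).inv := by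
  rw [← cancel_mono (Scheme.ΓSpecIso Γ(X, ⊤)).hom, Iso.inv_hom_id, ← Scheme.toSpecΓ_appTop,
    ← Scheme.Hom.comp_appTop, show X.toSpecΓ ≫ X.isoSpec.inv = 𝟙 _ from X.isoSpec.hom_inv_id]
  rfl

variable {H T : Over (Spec (CommRingCat.of K))}

/-- The scheme morphism of a map of global functions. -/
def ofHomLeft [IsAffine H.left] (ψ : Γ(H.left, ⊤) →+* Γ(T.left, ⊤)) : T.left ⟶ H.left :=
  T.left.toSpecΓ ≫ Spec.map (CommRingCat.ofHom ψ) ≫ H.left.isoSpec.inv

theorem ofHomLeft_appTop [IsAffine H.left] (ψ : Γ(H.left, ⊤) →+* Γ(T.left, ⊤)) :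
    (ofHomLeft ψ).appTop = CommRingCat.ofHom ψ := by
  rw [ofHomLeft, Scheme.Hom.comp_appTop, Scheme.Hom.comp_appTop, isoSpec_inv_appTop, Category.assoc,
    ← Scheme.ΓSpecIso_inv_naturality_assoc, Scheme.toSpecΓ_appTop, Iso.inv_hom_id, Category.comp_id]

/-- The point of a map of global functions. -/
def ofHom [IsAffine H.left] (ψ : Γ(H.left, ⊤) →+* Γ(T.left, ⊤)) (hψ : ∀ x, ψ (kmap H x) = kmap T x) : T ⟶ H :=
  Over.homMk (ofHomLeft ψ) (ext_of_isAffine (by
    rw [Scheme.Hom.comp_appTop, ofHomLeft_appTop]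
    ext y
    obtain ⟨x, rfl⟩ := (ConcreteCategory.bijective_of_isIso (Scheme.ΓSpecIso (CommRingCat.of K)).inv).2 y
    exact hψ x))

theorem ofHom_appTop [IsAffine H.left] (ψ : Γ(H.left, ⊤) →+* Γ(T.left, ⊤)) (hψ : ∀ x, ψ (kmap H x) = kmap T x)
    (a : Γ(H.left, ⊤)) : (ofHom ψ hψ).left.appTop a = ψ a := by
  show (ofHomLeft ψ).appTop a = ψ a
  rw [ofHomLeft_appTop]
  rfl

theorem hom_ext_appTop [IsAffine H.left] {p q : T ⟶ H} (h : ∀ a, p.left.appTop a = q.left.appTop a) : p = q :=
  Over.OverMorphism.ext (ext_of_isAffine (ConcreteCategory.hom_ext _ _ h))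

/-- Global functions of a finite scheme. -/
theorem finite_kmap (H : Over (Spec (CommRingCat.of K))) [IsFinite H.hom] : (kmap H).Finite := by
  refine RingHom.Finite.comp ?_ (RingHom.Finite.of_surjective _
    (ConcreteCategory.bijective_of_isIso (Scheme.ΓSpecIso (CommRingCat.of K)).inv).2)
  exact IsFinite.finite_app H.hom ⊤ (isAffineOpen_top _)

/-- A coordinate separating maps into all rings generates. -/
theorem surjective_aeval {A : Type u} [CommRing A] [Algebra K A] [Module.Finite K A] (v : A)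
    (h : ∀ (R : Type u) [CommRing R] (p q : A →+* R),
      p.comp (algebraMap K A) = q.comp (algebraMap K A) → p v = q v → p = q) :
    Function.Surjective (aeval (R := K) v) := by
  let f : CommRingCat.of K[X] ⟶ CommRingCat.of A := CommRingCat.ofHom (aeval (R := K) v).toRingHom
  haveI : Epi f := ⟨fun {R} p q hpq => by
    refine CommRingCat.hom_ext (h R p.hom q.hom ?_ ?_)
    · refine RingHom.ext fun x => ?_
      have := congr($hpq (C x))
      simpa [f] using this
    · have := congr($hpq X)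
      simpa [f] using this⟩
  have hfin : f.hom.Finite := by
    letI : Algebra K[X] A := (aeval (R := K) v).toRingHom.toAlgebra
    haveI : IsScalarTower K K[X] A :=
      IsScalarTower.of_algebraMap_eq fun x => ((aeval (R := K) v).commutes x).symm
    exact Module.Finite.of_restrictScalars_finite K K[X] A
  exact RingHom.surjective_of_epi_of_finite f hfin

theorem hom_mul_comp {C : Type*} [Category C] [CartesianMonoidalCategory C] {X M N : C} [MonObj M] [MonObj N]
    (a b : X ⟶ M) (f : M ⟶ N) [IsMonHom f] : (a * b) ≫ f = (a ≫ f) * (b ≫ f) := by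
  rw [Hom.mul_def, Hom.mul_def, Category.assoc, IsMonHom.mul_hom f, ← Category.assoc, lift_map]

theorem isMonHom_of_points {C : Type*} [Category C] [CartesianMonoidalCategory C] {G G' : C} [GrpObj G] [GrpObj G']
    (φ : G ⟶ G') (h : ∀ (T : C) (a b : T ⟶ G), (a * b) ≫ φ = (a ≫ φ) * (b ≫ φ)) : IsMonHom φ where
  one_hom := by
    rw [MonObj.one_eq_one, MonObj.one_eq_one]
    have := h (𝟙_ C) 1 1
    rw [_root_.one_mul] at this
    exact left_eq_mul.1 this
  mul_hom := by
    rw [MonObj.mul_eq_mul, MonObj.mul_eq_mul, h, MonObj.comp_mul, tensorHom_fst, tensorHom_snd]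

/-- A kernel is recognised on points. -/
theorem isKernel_of_points {G H Q : Over (Spec (CommRingCat.of K))} [GrpObj Q] (i : H ⟶ G) [Mono i] (φ : G ⟶ Q)
    (hi : i ≫ φ = 1) (h : ∀ (T : Over (Spec (CommRingCat.of K))) (t : T ⟶ G), t ≫ φ = 1 → ∃ g : T ⟶ H, g ≫ i = t) :
    AlgGrp.IsKernel i φ := by
  have hone : ∀ (X : Over (Spec (CommRingCat.of K))) (a : X ⟶ 𝟙_ (Over (Spec (CommRingCat.of K)))), a ≫ η[Q] = 1 := fun X a => by
    rw [MonObj.one_eq_one, MonObj.comp_one]
  refine ⟨⟨by rw [hi, hone]⟩, ⟨PullbackCone.IsLimit.mk _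
    (fun s => (h _ s.fst (s.condition.trans (hone _ _))).choose)
    (fun s => (h _ s.fst (s.condition.trans (hone _ _))).choose_spec)
    (fun s => toUnit_unique _ _)
    (fun s m hm _ => (cancel_mono i).1
      (hm.trans (h _ s.fst (s.condition.trans (hone _ _))).choose_spec.symm))⟩⟩

theorem flat_surjective_of_conj {R : Type u} [CommRing R] [IsDomain R] [IsDedekindDomain R] {X : Scheme.{u}}
    (φ : X ⟶ X) (e : X ≅ Spec (CommRingCat.of R)) (ψ : R →+* R) (hinj : Function.Injective ψ)
    (hint : ψ.IsIntegral) (h : φ = e.hom ≫ Spec.map (CommRingCat.ofHom ψ) ≫ e.inv) :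
    Flat φ ∧ Surjective φ := by
  have key : ∀ (S : Type u) [CommRing S] [IsDomain S] [Algebra R S],
      Function.Injective (algebraMap R S) → Module.Flat R S := fun S _ _ _ hi => by
    haveI : FaithfulSMul R S := (faithfulSMul_iff_algebraMap_injective R S).mpr hi
    haveI : Module.IsTorsionFree R S := Module.isTorsionFree_iff_algebraMap_injective.2 hi
    infer_instance
  haveI : Flat (Spec.map (CommRingCat.ofHom ψ)) := Flat.SpecMap_iff.2 (by
    letI := ψ.toAlgebra
    exact key R hinj)
  haveI : Surjective (Spec.map (CommRingCat.ofHom ψ)) := ⟨hint.comap_surjective hinj⟩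
  subst h
  exact ⟨inferInstance, inferInstance⟩

end Groth.L15.FinSub

end
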