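import Groth.Agent.L15.FinSub.Basic
import Groth.Agent.L25.GaPts

/-! Finite subgroup schemes of the additive group are kernels of endomorphisms. -/

set_option autoImplicit false

universe u

open CategoryTheory CategoryTheory.Limits MonoidalCategory CartesianMonoidalCategory MonObj AlgebraicGeometry
  Opposite Polynomial

noncomputable section

namespace Groth.L15.FinSub

variable {K : Type u} [Field K]

/-- The affine line. -/
abbrev polyOver (K : Type u) [Field K] : Over (Spec (CommRingCat.of K)) :=
  Over.mk (Spec.map (CommRingCat.ofHom (Polynomial.C : K →+* K[X])))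

theorem exists_kernel_Ga (H : Over (Spec (CommRingCat.of K))) [GrpObj H]
    (i : H ⟶ Red.Ga (Spec (CommRingCat.of K))) [IsMonHom i] [Mono i] [IsFinite H.hom] :
    ∃ φ : Red.Ga (Spec (CommRingCat.of K)) ⟶ Red.Ga (Spec (CommRingCat.of K)),
      IsMonHom φ ∧ AlgGrp.IsKernel i φ ∧ Flat φ.left ∧ Surjective φ.left := by
  haveI : IsAffine H.left := isAffine_of_isAffineHom H.hom
  letI : Algebra K Γ(H.left, ⊤) := (kmap H).toAlgebra
  haveI : Module.Finite K Γ(H.left, ⊤) := finite_kmap H
  haveI : Nontrivial Γ(H.left, ⊤) := by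
    haveI : Nontrivial Γ((𝟙_ (Over (Spec (CommRingCat.of K)))).left, ⊤) :=
      (ConcreteCategory.bijective_of_isIso (Scheme.ΓSpecIso (CommRingCat.of K)).inv).1.nontrivial
    exact (η[H].left.appTop).hom.domain_nontrivial
  let v : Γ(H.left, ⊤) := Red.gaFn i
  have hv : ∀ (T : Over (Spec (CommRingCat.of K))) (g : T ⟶ H), Red.gaFn (g ≫ i) = g.left.appTop v := fun T g =>
    Groth.L25.GaPts.gaFn_comp g i
  have hsurj : Function.Surjective (aeval (R := K) v) := by
    refine surjective_aeval v fun R _ p q hK hpq => ?_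
    let T : Over (Spec (CommRingCat.of K)) := Over.mk (Spec.map (CommRingCat.ofHom (p.comp (kmap H))))
    let e := (Scheme.ΓSpecIso (CommRingCat.of R)).inv.hom
    have hp : ∀ x, e.comp p (kmap H x) = kmap T x := fun x => (kmap_spec (p.comp (kmap H)) x).symm
    have hq : ∀ x, e.comp q (kmap H x) = kmap T x := fun x => by
      rw [← hp]; exact congrArg e (RingHom.congr_fun hK x).symm
    have heq : ofHom (H := H) (T := T) (e.comp p) hp = ofHom (H := H) (T := T) (e.comp q) hq := by
      rw [← cancel_mono i]
      apply Groth.L25.GaPts.gaFn_injective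
      show Red.gaFn _ = Red.gaFn _
      rw [hv, hv, ofHom_appTop, ofHom_appTop]
      exact congrArg e hpq
    refine RingHom.ext fun a => (ConcreteCategory.bijective_of_isIso (Scheme.ΓSpecIso (CommRingCat.of R)).inv).1 ?_
    have := congrArg (fun g : T ⟶ H => g.left.appTop a) heq
    simp only [ofHom_appTop] at this
    exact this
  let f := minpoly K v
  have hmon : f.Monic := minpoly.monic (Algebra.IsIntegral.isIntegral v)
  -- the value of the coordinate of the sum
  have hsum : aeval (v ⊗ₜ[K] (1 : Γ(H.left, ⊤)) + (1 : Γ(H.left, ⊤)) ⊗ₜ[K] v) f = 0 := by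
    let AA := TensorProduct K Γ(H.left, ⊤) Γ(H.left, ⊤)
    let T : Over (Spec (CommRingCat.of K)) := Over.mk (Spec.map (CommRingCat.ofHom (algebraMap K AA)))
    let e := (Scheme.ΓSpecIso (CommRingCat.of AA)).inv.hom
    let iL : Γ(H.left, ⊤) →ₐ[K] AA := Algebra.TensorProduct.includeLeft
    let iR : Γ(H.left, ⊤) →ₐ[K] AA := Algebra.TensorProduct.includeRight
    have hk : ∀ x, e (algebraMap K AA x) = kmap T x := fun x => (kmap_spec (algebraMap K AA) x).symm
    let p := ofHom (T := T) (e.comp iL.toRingHom) (fun x => (congrArg e (iL.commutes x)).trans (hk x))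
    let q := ofHom (T := T) (e.comp iR.toRingHom) (fun x => (congrArg e (iR.commutes x)).trans (hk x))
    have hs : e (iL v + iR v) = (p * q).left.appTop v := by
      rw [← hv, hom_mul_comp p q i, Groth.L25.GaPts.gaFn_mul, hv, hv, ofHom_appTop, ofHom_appTop, map_add]
      rfl
    refine (ConcreteCategory.bijective_of_isIso (Scheme.ΓSpecIso (CommRingCat.of AA)).inv).1 ?_
    show e (aeval (iL v + iR v) f) = e 0
    rw [aeval_def, hom_eval₂, hs, map_zero, show e.comp (algebraMap K AA) = kmap T from RingHom.ext hk,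
      ← comp_kmap (p * q), ← hom_eval₂]
    rw [show eval₂ (kmap H) v f = 0 from minpoly.aeval K v, map_zero]
  let G := Red.Ga (Spec (CommRingCat.of K))
  let xG : Γ(G.left, ⊤) := Red.gaFn (𝟙 G)
  let φ : G ⟶ G := Groth.L25.GaPts.ptOfElt (f.eval₂ (kmap G) xG)
  have hφ : ∀ (T : Over (Spec (CommRingCat.of K))) (t : T ⟶ G),
      Red.gaFn (t ≫ φ) = f.eval₂ (kmap T) (Red.gaFn t) := fun T t => by
    rw [Groth.L25.GaPts.gaFn_comp, Groth.L25.GaPts.gaFn_ptOfElt, hom_eval₂, comp_kmap t,
      ← Groth.L25.GaPts.gaFn_comp, Category.comp_id]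
  have hadd : ∀ (T : Over (Spec (CommRingCat.of K))) (w z : Γ(T.left, ⊤)),
      f.eval₂ (kmap T) (w + z) = f.eval₂ (kmap T) w + f.eval₂ (kmap T) z := fun T w z => by
    letI : Algebra K Γ(T.left, ⊤) := (kmap T).toAlgebra
    exact additive_of_aeval hsum w z
  refine ⟨φ, ?_, ?_, ?_⟩
  · refine isMonHom_of_points φ fun T a b => ?_
    apply Groth.L25.GaPts.gaFn_injective
    show Red.gaFn _ = Red.gaFn _
    rw [hφ, Groth.L25.GaPts.gaFn_mul, Groth.L25.GaPts.gaFn_mul, hφ, hφ, hadd]
  · refine isKernel_of_points i φ ?_ fun T t ht => ?_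
    · apply Groth.L25.GaPts.gaFn_injective
      show Red.gaFn _ = Red.gaFn _
      rw [hφ, Groth.L25.GaPts.gaFn_one]
      exact minpoly.aeval K v
    · have hw : f.eval₂ (kmap T) (Red.gaFn t) = 0 := by
        rw [← hφ, ht, Groth.L25.GaPts.gaFn_one]
      have hker : RingHom.ker (aeval (R := K) v).toRingHom ≤
          RingHom.ker (eval₂RingHom (kmap T) (Red.gaFn t)) := fun g hg => by
        obtain ⟨c, rfl⟩ := minpoly.dvd K v hg
        rw [RingHom.mem_ker, map_mul, coe_eval₂RingHom, hw, zero_mul]
      let ψ := (aeval (R := K) v).toRingHom.liftOfSurjective hsurj ⟨eval₂RingHom (kmap T) (Red.gaFn t), hker⟩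
      have hψ : ∀ g : K[X], ψ (aeval v g) = g.eval₂ (kmap T) (Red.gaFn t) := fun g =>
        RingHom.liftOfRightInverse_comp_apply (aeval (R := K) v).toRingHom _ (Function.rightInverse_surjInv hsurj)
          ⟨eval₂RingHom (kmap T) (Red.gaFn t), hker⟩ g
      refine ⟨ofHom ψ fun x => ?_, ?_⟩
      · have := hψ (Polynomial.C x)
        rw [aeval_C, eval₂_C] at this
        exact this
      · apply Groth.L25.GaPts.gaFn_injective
        show Red.gaFn _ = Red.gaFn _
        rw [hv, ofHom_appTop]
        have := hψ Polynomial.X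
        rw [aeval_X, eval₂_X] at this
        exact this
  · let P := polyOver K
    haveI : IsAffine P.left := inferInstanceAs (IsAffine (Spec (CommRingCat.of K[X])))
    let e := (Scheme.ΓSpecIso (CommRingCat.of K[X])).inv.hom
    let d := (Scheme.ΓSpecIso (CommRingCat.of K[X])).hom.hom
    have hde : ∀ y, d (e y) = y := fun y => congr($((Scheme.ΓSpecIso (CommRingCat.of K[X])).inv_hom_id) y)
    have hed : ∀ y, e (d y) = y := fun y => congr($((Scheme.ΓSpecIso (CommRingCat.of K[X])).hom_inv_id) y)
    have hk : ∀ x, kmap P x = e (Polynomial.C x) := fun x => kmap_spec (Polynomial.C : K →+* K[X]) x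
    let a : P ⟶ G := Groth.L25.GaPts.ptOfElt (e Polynomial.X)
    let b : G ⟶ P := ofHom ((eval₂RingHom (kmap G) xG).comp d) fun x => by
      rw [RingHom.comp_apply, hk, hde, coe_eval₂RingHom, eval₂_C]
    let q : P ⟶ P := Over.homMk (Spec.map (CommRingCat.ofHom (compRingHom f))) (by
      show Spec.map _ ≫ Spec.map _ = Spec.map _
      rw [← Spec.map_comp]
      congr 1
      ext x
      simp)
    have hba : b ≫ a = 𝟙 G := by
      apply Groth.L25.GaPts.gaFn_injective
      show Red.gaFn _ = Red.gaFn _
      rw [Groth.L25.GaPts.gaFn_comp, Groth.L25.GaPts.gaFn_ptOfElt, ofHom_appTop, RingHom.comp_apply, hde,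
        coe_eval₂RingHom, eval₂_X]
    have hkP : kmap P = e.comp Polynomial.C := RingHom.ext hk
    have hab : a ≫ b = 𝟙 P := by
      refine hom_ext_appTop fun y => ?_
      rw [Over.comp_left, GmPts.appTop_comp_apply, ofHom_appTop, RingHom.comp_apply, coe_eval₂RingHom, hom_eval₂,
        comp_kmap a, ← Groth.L25.GaPts.gaFn_comp, Category.comp_id, Groth.L25.GaPts.gaFn_ptOfElt, hkP,
        ← hom_eval₂, eval₂_C_X, hed]
      rfl
    have hq : a ≫ φ = q ≫ a := by
      apply Groth.L25.GaPts.gaFn_injective
      show Red.gaFn _ = Red.gaFn _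
      rw [hφ, Groth.L25.GaPts.gaFn_ptOfElt, hkP, ← hom_eval₂, eval₂_C_X,
        Groth.L25.GaPts.gaFn_comp, Groth.L25.GaPts.gaFn_ptOfElt]
      refine Eq.trans ?_ (congr($(Scheme.ΓSpecIso_inv_naturality (CommRingCat.ofHom (compRingHom f))) Polynomial.X))
      show e f = e (Polynomial.X.comp f)
      rw [X_comp]
    let eG : G.left ≅ Spec (CommRingCat.of K[X]) :=
      ⟨b.left, a.left, congrArg CommaMorphism.left hba, congrArg CommaMorphism.left hab⟩
    refine flat_surjective_of_conj φ.left eG (compRingHom f) ?_ ?_ ?_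
    · rw [injective_iff_map_eq_zero]
      intro g hg
      rw [coe_compRingHom_apply, comp_eq_zero_iff] at hg
      refine hg.resolve_right fun h => ?_
      have := congrArg Polynomial.natDegree h.2
      rw [natDegree_C] at this
      exact (minpoly_natDegree_pos v).ne' this
    · intro g
      have hX : (compRingHom f).IsIntegralElem (Polynomial.X : K[X]) := by
        refine ⟨f.map Polynomial.C - Polynomial.C Polynomial.X, ?_, ?_⟩
        · refine (hmon.map _).sub_of_left ?_
          rw [degree_C Polynomial.X_ne_zero, degree_map]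
          exact natDegree_pos_iff_degree_pos.1 (minpoly_natDegree_pos v)
        · rw [eval₂_sub, eval₂_C, eval₂_map, sub_eq_zero]
          show eval₂ ((compRingHom f).comp Polynomial.C) Polynomial.X f = Polynomial.X.comp f
          rw [X_comp, show (compRingHom f).comp Polynomial.C = Polynomial.C from RingHom.ext fun x => by simp,
            eval₂_C_X]
      induction g using Polynomial.induction_on' with
      | add p q hp hq => exact hp.add _ hq
      | monomial n c =>
        rw [← C_mul_X_pow_eq_monomial]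
        refine RingHom.IsIntegralElem.mul _ ?_ ?_
        · have := RingHom.isIntegralElem_map (compRingHom f) (x := Polynomial.C c)
          simpa using this
        · induction n with
          | zero => rw [pow_zero]; exact RingHom.isIntegralElem_one _
          | succ n ih => rw [pow_succ]; exact ih.mul _ hX
    · show φ.left = b.left ≫ q.left ≫ a.left
      rw [← Over.comp_left, ← Over.comp_left, ← hq, ← Category.assoc, hba, Category.id_comp]

end Groth.L15.FinSub

end
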