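import Groth.Agent.L15.FinSub.Basic
import Groth.Prelude.Def_GmPts
import Mathlib.RingTheory.Localization.Away.Basic
import Mathlib.RingTheory.DedekindDomain.Dvr

/-! Finite subgroup schemes of the multiplicative group are kernels of endomorphisms. -/

set_option autoImplicit false

universe u

open CategoryTheory CategoryTheory.Limits MonoidalCategory CartesianMonoidalCategory MonObj AlgebraicGeometry
  Opposite Polynomial

noncomputable section

namespace Groth.L15.FinSub

variable {K : Type u} [Field K]

theorem exists_kernel_Gm (H : Over (Spec (CommRingCat.of K))) [GrpObj H]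
    (i : H ⟶ Red.Gm (Spec (CommRingCat.of K))) [IsMonHom i] [Mono i] [IsFinite H.hom] :
    ∃ φ : Red.Gm (Spec (CommRingCat.of K)) ⟶ Red.Gm (Spec (CommRingCat.of K)),
      IsMonHom φ ∧ AlgGrp.IsKernel i φ ∧ Flat φ.left ∧ Surjective φ.left := by
  haveI : IsAffine H.left := isAffine_of_isAffineHom H.hom
  letI : Algebra K Γ(H.left, ⊤) := (kmap H).toAlgebra
  haveI : Module.Finite K Γ(H.left, ⊤) := finite_kmap H
  haveI : Nontrivial Γ(H.left, ⊤) := by
    haveI : Nontrivial Γ((𝟙_ (Over (Spec (CommRingCat.of K)))).left, ⊤) :=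
      (ConcreteCategory.bijective_of_isIso (Scheme.ΓSpecIso (CommRingCat.of K)).inv).1.nontrivial
    exact (η[H].left.appTop).hom.domain_nontrivial
  let v : Γ(H.left, ⊤) := Red.gmFn i
  have hv : ∀ (T : Over (Spec (CommRingCat.of K))) (g : T ⟶ H), Red.gmFn (g ≫ i) = g.left.appTop v := fun T g =>
    GmPts.gmFn_comp g i
  have hsurj : Function.Surjective (aeval (R := K) v) := by
    refine surjective_aeval v fun R _ p q hK hpq => ?_
    let T : Over (Spec (CommRingCat.of K)) := Over.mk (Spec.map (CommRingCat.ofHom (p.comp (kmap H))))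
    let e := (Scheme.ΓSpecIso (CommRingCat.of R)).inv.hom
    have hp : ∀ x, e.comp p (kmap H x) = kmap T x := fun x => (kmap_spec (p.comp (kmap H)) x).symm
    have hq : ∀ x, e.comp q (kmap H x) = kmap T x := fun x => by
      rw [← hp]; exact congrArg e (RingHom.congr_fun hK x).symm
    have heq : ofHom (H := H) (T := T) (e.comp p) hp = ofHom (H := H) (T := T) (e.comp q) hq := by
      rw [← cancel_mono i]
      apply GmPts.gmFn_injective
      show Red.gmFn _ = Red.gmFn _
      rw [hv, hv, ofHom_appTop, ofHom_appTop]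
      exact congrArg e hpq
    refine RingHom.ext fun a => (ConcreteCategory.bijective_of_isIso (Scheme.ΓSpecIso (CommRingCat.of R)).inv).1 ?_
    have := congrArg (fun g : T ⟶ H => g.left.appTop a) heq
    simp only [ofHom_appTop] at this
    exact this
  have hsum : aeval (v ⊗ₜ[K] v) (minpoly K v) = 0 := by
    let AA := TensorProduct K Γ(H.left, ⊤) Γ(H.left, ⊤)
    let T : Over (Spec (CommRingCat.of K)) := Over.mk (Spec.map (CommRingCat.ofHom (algebraMap K AA)))
    let e := (Scheme.ΓSpecIso (CommRingCat.of AA)).inv.hom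
    let iL : Γ(H.left, ⊤) →ₐ[K] AA := Algebra.TensorProduct.includeLeft
    let iR : Γ(H.left, ⊤) →ₐ[K] AA := Algebra.TensorProduct.includeRight
    have hk : ∀ x, e (algebraMap K AA x) = kmap T x := fun x => (kmap_spec (algebraMap K AA) x).symm
    let p := ofHom (T := T) (e.comp iL.toRingHom) (fun x => (congrArg e (iL.commutes x)).trans (hk x))
    let q := ofHom (T := T) (e.comp iR.toRingHom) (fun x => (congrArg e (iR.commutes x)).trans (hk x))
    have hvv : v ⊗ₜ[K] v = iL v * iR v := by
      show v ⊗ₜ[K] v = (v ⊗ₜ[K] (1 : Γ(H.left, ⊤))) * ((1 : Γ(H.left, ⊤)) ⊗ₜ[K] v)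
      rw [Algebra.TensorProduct.tmul_mul_tmul, _root_.mul_one, _root_.one_mul]
    have hs : e (iL v * iR v) = (p * q).left.appTop v := by
      rw [← hv, hom_mul_comp p q i, GmPts.gmFn_mul, hv, hv, ofHom_appTop, ofHom_appTop, map_mul]
      rfl
    refine (ConcreteCategory.bijective_of_isIso (Scheme.ΓSpecIso (CommRingCat.of AA)).inv).1 ?_
    show e (aeval (v ⊗ₜ[K] v) (minpoly K v)) = e 0
    rw [hvv, aeval_def, hom_eval₂, hs, map_zero, show e.comp (algebraMap K AA) = kmap T from RingHom.ext hk,
      ← comp_kmap (p * q), ← hom_eval₂]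
    rw [show eval₂ (kmap H) v (minpoly K v) = 0 from minpoly.aeval K v, map_zero]
  let n := (minpoly K v).natDegree
  have hn : 0 < n := minpoly_natDegree_pos v
  have hf : minpoly K v = X ^ n - 1 := eq_pow_sub_one (GmPts.isUnit_gmFn i) hsum
  have hvn : v ^ n = 1 := by
    have := minpoly.aeval K v
    rw [hf] at this
    simpa [sub_eq_zero] using this
  let G := Red.Gm (Spec (CommRingCat.of K))
  let φ : G ⟶ G := GmPts.ptOfUnit (GmPts.unitOfPt (𝟙 G) ^ n)
  have hφ : ∀ (T : Over (Spec (CommRingCat.of K))) (t : T ⟶ G), Red.gmFn (t ≫ φ) = Red.gmFn t ^ n := fun T t => by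
    rw [GmPts.gmFn_comp, GmPts.gmFn_ptOfUnit, Units.val_pow_eq_pow_val, GmPts.val_unitOfPt, map_pow,
      ← GmPts.gmFn_comp, Category.comp_id]
  refine ⟨φ, ?_, ?_, ?_⟩
  · refine isMonHom_of_points φ fun T a b => ?_
    apply GmPts.gmFn_injective
    show Red.gmFn _ = Red.gmFn _
    rw [hφ, GmPts.gmFn_mul, GmPts.gmFn_mul, hφ, hφ, mul_pow]
  · refine isKernel_of_points i φ ?_ fun T t ht => ?_
    · apply GmPts.gmFn_injective
      show Red.gmFn _ = Red.gmFn _
      rw [hφ, GmPts.gmFn_one]
      exact hvn
    · have hw : (minpoly K v).eval₂ (kmap T) (Red.gmFn t) = 0 := by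
        rw [hf, eval₂_sub, eval₂_one, eval₂_X_pow, ← hφ, ht, GmPts.gmFn_one, sub_self]
      have hker : RingHom.ker (aeval (R := K) v).toRingHom ≤
          RingHom.ker (eval₂RingHom (kmap T) (Red.gmFn t)) := fun g hg => by
        obtain ⟨c, rfl⟩ := minpoly.dvd K v hg
        rw [RingHom.mem_ker, map_mul, coe_eval₂RingHom, hw, zero_mul]
      let ψ := (aeval (R := K) v).toRingHom.liftOfSurjective hsurj ⟨eval₂RingHom (kmap T) (Red.gmFn t), hker⟩
      have hψ : ∀ g : K[X], ψ (aeval v g) = g.eval₂ (kmap T) (Red.gmFn t) := fun g =>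
        RingHom.liftOfRightInverse_comp_apply (aeval (R := K) v).toRingHom _ (Function.rightInverse_surjInv hsurj)
          ⟨eval₂RingHom (kmap T) (Red.gmFn t), hker⟩ g
      refine ⟨ofHom ψ fun x => ?_, ?_⟩
      · have := hψ (Polynomial.C x)
        rw [aeval_C, eval₂_C] at this
        exact this
      · apply GmPts.gmFn_injective
        show Red.gmFn _ = Red.gmFn _
        rw [hv, ofHom_appTop]
        have := hψ Polynomial.X
        rw [aeval_X, eval₂_X] at this
        exact this
  · let L := Localization.Away (Polynomial.X : K[X])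
    let jL := algebraMap K[X] L
    haveI : IsDomain L := IsLocalization.isDomain_localization
      (Submonoid.powers_le.2 (mem_nonZeroDivisors_of_ne_zero Polynomial.X_ne_zero))
    haveI : IsDedekindDomain L := IsLocalization.isDedekindDomain K[X]
      (Submonoid.powers_le.2 (mem_nonZeroDivisors_of_ne_zero Polynomial.X_ne_zero)) L
    have hXu : IsUnit (jL Polynomial.X) := IsLocalization.Away.algebraMap_isUnit (Polynomial.X : K[X])
    let P : Over (Spec (CommRingCat.of K)) := Over.mk (Spec.map (CommRingCat.ofHom (jL.comp Polynomial.C)))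
    haveI : IsAffine P.left := inferInstanceAs (IsAffine (Spec (CommRingCat.of L)))
    let e := (Scheme.ΓSpecIso (CommRingCat.of L)).inv.hom
    let d := (Scheme.ΓSpecIso (CommRingCat.of L)).hom.hom
    have hde : ∀ y, d (e y) = y := fun y => congr($((Scheme.ΓSpecIso (CommRingCat.of L)).inv_hom_id) y)
    have hed : ∀ y, e (d y) = y := fun y => congr($((Scheme.ΓSpecIso (CommRingCat.of L)).hom_inv_id) y)
    have hk : ∀ x, kmap P x = e (jL (Polynomial.C x)) := fun x => kmap_spec (jL.comp Polynomial.C) x
    let a : P ⟶ G := GmPts.ptOfUnit (Units.map e.toMonoidHom hXu.unit)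
    have ha : Red.gmFn a = e (jL Polynomial.X) := GmPts.gmFn_ptOfUnit _
    let β : L →+* Γ(G.left, ⊤) := IsLocalization.Away.lift (Polynomial.X : K[X])
      (g := eval₂RingHom (kmap G) (Red.gmFn (𝟙 G))) (by
        rw [coe_eval₂RingHom, eval₂_X]; exact GmPts.isUnit_gmFn _)
    have hβ : ∀ g : K[X], β (jL g) = g.eval₂ (kmap G) (Red.gmFn (𝟙 G)) := fun g =>
      IsLocalization.Away.lift_eq _ _ g
    let b : G ⟶ P := ofHom (β.comp d) fun x => by
      rw [RingHom.comp_apply, hk, hde, hβ, eval₂_C]
    let ψ : L →+* L := IsLocalization.Away.lift (Polynomial.X : K[X])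
      (g := jL.comp (compRingHom (Polynomial.X ^ n))) (by
        rw [RingHom.comp_apply, coe_compRingHom_apply, X_comp, map_pow]; exact hXu.pow n)
    have hψ : ∀ g : K[X], ψ (jL g) = jL (g.comp (Polynomial.X ^ n)) := fun g =>
      IsLocalization.Away.lift_eq _ _ g
    let q : P ⟶ P := Over.homMk (Spec.map (CommRingCat.ofHom ψ)) (by
      show Spec.map _ ≫ Spec.map _ = Spec.map _
      rw [← Spec.map_comp]
      congr 1
      ext x
      show ψ (jL (Polynomial.C x)) = jL (Polynomial.C x)
      rw [hψ, C_comp])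
    have hba : b ≫ a = 𝟙 G := by
      apply GmPts.gmFn_injective
      show Red.gmFn _ = Red.gmFn _
      rw [GmPts.gmFn_comp, ha, ofHom_appTop, RingHom.comp_apply, hde, hβ, eval₂_X]
    have hab : a ≫ b = 𝟙 P := by
      have hh : ((a.left.appTop).hom.comp (β.comp d)).comp (e.comp jL) = e.comp jL := by
        refine Polynomial.ringHom_ext (fun x => ?_) ?_
        · show a.left.appTop (β (d (e (jL (Polynomial.C x))))) = e (jL (Polynomial.C x))
          rw [hde, hβ, eval₂_C, kmap_natural, hk]
        · show a.left.appTop (β (d (e (jL Polynomial.X)))) = e (jL Polynomial.X)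
          rw [hde, hβ, eval₂_X, ← GmPts.gmFn_comp, Category.comp_id, ha]
      have hh' : ((a.left.appTop).hom.comp (β.comp d)).comp e = e :=
        IsLocalization.ringHom_ext (Submonoid.powers (Polynomial.X : K[X])) hh
      refine hom_ext_appTop fun y => ?_
      rw [Over.comp_left, GmPts.appTop_comp_apply, ofHom_appTop]
      have := RingHom.congr_fun hh' (d y)
      simp only [RingHom.comp_apply] at this
      rw [hed] at this
      rw [RingHom.comp_apply]
      exact this
    have hq : a ≫ φ = q ≫ a := by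
      apply GmPts.gmFn_injective
      show Red.gmFn _ = Red.gmFn _
      rw [hφ, GmPts.gmFn_comp, ha]
      refine Eq.trans ?_ (congr($(Scheme.ΓSpecIso_inv_naturality (CommRingCat.ofHom ψ)) (jL Polynomial.X)))
      show e (jL Polynomial.X) ^ n = e (ψ (jL Polynomial.X))
      rw [hψ, X_comp, map_pow, map_pow]
    let eG : G.left ≅ Spec (CommRingCat.of L) :=
      ⟨b.left, a.left, congrArg CommaMorphism.left hba, congrArg CommaMorphism.left hab⟩
    refine flat_surjective_of_conj φ.left eG ψ ?_ ?_ ?_
    · rw [injective_iff_map_eq_zero]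
      intro y hy
      obtain ⟨g, ⟨s, m, rfl⟩, rfl⟩ := IsLocalization.exists_mk'_eq (Submonoid.powers (Polynomial.X : K[X])) y
      have h1 := congrArg ψ (IsLocalization.mk'_spec L g
        (⟨_, m, rfl⟩ : Submonoid.powers (Polynomial.X : K[X])))
      rw [map_mul, hy, zero_mul, hψ] at h1
      have hg : g.comp (Polynomial.X ^ n) = 0 := by
        apply IsLocalization.injective L (Submonoid.powers_le.2 (mem_nonZeroDivisors_of_ne_zero Polynomial.X_ne_zero))
        rw [map_zero]
        exact h1.symm
      have : g = 0 := by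
        rcases comp_eq_zero_iff.1 hg with h | ⟨-, h⟩
        · exact h
        · exfalso
          have := congrArg Polynomial.natDegree h
          rw [natDegree_X_pow, natDegree_C] at this
          omega
      rw [this, IsLocalization.mk'_zero]
    · have hroot : ∀ y z : L, ψ y = z ^ n → ψ.IsIntegralElem z := fun y z h =>
        ⟨Polynomial.X ^ n - Polynomial.C y, monic_X_pow_sub_C _ hn.ne', by
          rw [eval₂_sub, eval₂_X_pow, eval₂_C, h, sub_self]⟩
      have hX : ψ.IsIntegralElem (jL Polynomial.X) := hroot (jL Polynomial.X) _ (by rw [hψ, X_comp, map_pow])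
      have hXi : ψ.IsIntegralElem (↑hXu.unit⁻¹ : L) := hroot (↑hXu.unit⁻¹ : L) _ (by
        have h1 : ψ (↑hXu.unit⁻¹ : L) * jL Polynomial.X ^ n = 1 := by
          rw [← map_pow, ← X_comp (p := (Polynomial.X : K[X]) ^ n), ← hψ, ← map_mul, hXu.val_inv_mul, map_one]
        refine (hXu.pow n).mul_left_injective ?_
        show ψ (↑hXu.unit⁻¹ : L) * jL Polynomial.X ^ n = (↑hXu.unit⁻¹ : L) ^ n * jL Polynomial.X ^ n
        rw [h1, ← mul_pow, hXu.val_inv_mul, one_pow])
      have hpoly : ∀ g : K[X], ψ.IsIntegralElem (jL g) := fun g => by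
        induction g using Polynomial.induction_on' with
        | add p q hp hq => rw [map_add]; exact hp.add _ hq
        | monomial k c =>
          rw [← C_mul_X_pow_eq_monomial, map_mul]
          refine RingHom.IsIntegralElem.mul _ ?_ ?_
          · have := RingHom.isIntegralElem_map ψ (x := jL (Polynomial.C c))
            rw [hψ, C_comp] at this
            exact this
          · induction k with
            | zero => rw [pow_zero, map_one]; exact RingHom.isIntegralElem_one _
            | succ k ih => rw [pow_succ, map_mul]; exact ih.mul _ hX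
      intro y
      obtain ⟨g, ⟨s, m, rfl⟩, rfl⟩ := IsLocalization.exists_mk'_eq (Submonoid.powers (Polynomial.X : K[X])) y
      have e1 : IsLocalization.mk' L g (⟨_, m, rfl⟩ : Submonoid.powers (Polynomial.X : K[X])) =
          jL g * (↑hXu.unit⁻¹ : L) ^ m := by
        rw [IsLocalization.mk'_eq_iff_eq_mul]
        show jL g = jL g * (↑hXu.unit⁻¹ : L) ^ m * jL (Polynomial.X ^ m)
        rw [map_pow, _root_.mul_assoc, ← mul_pow, hXu.val_inv_mul, one_pow, _root_.mul_one]
      rw [e1]
      refine (hpoly g).mul _ ?_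
      clear e1
      induction m with
      | zero => rw [pow_zero]; exact RingHom.isIntegralElem_one _
      | succ k ih => rw [pow_succ]; exact ih.mul _ hXi
    · show φ.left = b.left ≫ q.left ≫ a.left
      rw [← Over.comp_left, ← Over.comp_left, ← hq, ← Category.assoc, hba, Category.id_comp]

end Groth.L15.FinSub

end
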