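import Mathlib.Algebra.Polynomial.Taylor
import Mathlib.RingTheory.PowerBasis
import Mathlib.RingTheory.TensorProduct.Maps
import Mathlib.FieldTheory.Minpoly.Field
import Mathlib.LinearAlgebra.Basis.VectorSpace
import Mathlib.Tactic.LinearCombination

/-!
Coordinate rings of finite subgroup schemes of the additive and multiplicative groups: the minimal
polynomial of the coordinate is additive, respectively `X ^ n - 1`.
-/

set_option autoImplicit false

universe u

open Polynomial TensorProduct

namespace Groth.L15.FinSub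

theorem hasseDeriv_map {R S : Type*} [CommSemiring R] [CommSemiring S] (φ : R →+* S) (j : ℕ) (f : R[X]) :
    hasseDeriv j (f.map φ) = (hasseDeriv j f).map φ := by
  ext i
  simp [hasseDeriv_coeff, coeff_map]

/-- Taylor expansion in an algebra. -/
theorem aeval_add_eq {K R : Type*} [CommRing K] [CommRing R] [Algebra K R] (f : K[X]) (w z : R) :
    aeval (w + z) f = ∑ j ∈ Finset.range (f.natDegree + 1), aeval w (hasseDeriv j f) * z ^ j := by
  have h : aeval (w + z) f = (taylor w (f.map (algebraMap K R))).eval z := by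
    rw [taylor_eval, aeval_def, eval_map, add_comm]
  have hd : (taylor w (f.map (algebraMap K R))).natDegree < f.natDegree + 1 := by
    rw [natDegree_taylor]
    exact Nat.lt_succ_of_le natDegree_map_le
  rw [h, eval_eq_sum_range' hd]
  refine Finset.sum_congr rfl fun j _ => ?_
  rw [taylor_coeff, hasseDeriv_map, eval_map, aeval_def]

variable {K A : Type u} [Field K] [CommRing A] [Algebra K A] [Module.Finite K A] [Nontrivial A] {v : A}

theorem minpoly_natDegree_pos (v : A) : 0 < (minpoly K v).natDegree :=
  minpoly.natDegree_pos (Algebra.IsIntegral.isIntegral v)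

/-- Coefficients against the powers of `v` are unique. -/
theorem coeff_eq_zero (v : A) (c : Fin (minpoly K v).natDegree → A)
    (h : ∑ j, c j ⊗ₜ[K] (v ^ (j : ℕ)) = 0) : ∀ j, c j = 0 := by
  have hli : LinearIndependent K fun i : Fin (minpoly K v).natDegree => v ^ (i : ℕ) := linearIndependent_pow v
  let g := Fintype.linearCombination K (fun i : Fin (minpoly K v).natDegree => v ^ (i : ℕ))
  obtain ⟨g', hg'⟩ := g.exists_leftInverse_of_injective
    (LinearMap.ker_eq_bot.2 (linearIndependent_iff_injective_fintypeLinearCombination.1 hli)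
      : LinearMap.ker g = ⊥)
  intro j
  let lj : A →ₗ[K] K := (LinearMap.proj j).comp g'
  have hlj : ∀ i : Fin (minpoly K v).natDegree, lj (v ^ (i : ℕ)) = if i = j then 1 else 0 := by
    intro i
    have e : g (Pi.single i 1) = v ^ (i : ℕ) := by
      simp only [g, Fintype.linearCombination_apply_single, one_smul]
    have := LinearMap.congr_fun hg' (Pi.single i 1)
    simp only [LinearMap.comp_apply, e, LinearMap.id_apply] at this
    show g' (v ^ (i : ℕ)) j = _
    rw [this, Pi.single_apply]
    simp [eq_comm]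
  have h1 := congrArg ((TensorProduct.rid K A).toLinearMap ∘ₗ lj.lTensor A) h
  simp only [map_sum, LinearMap.comp_apply, LinearEquiv.coe_coe, LinearMap.lTensor_tmul,
    TensorProduct.rid_tmul, hlj, ite_smul, one_smul, zero_smul, Finset.sum_ite_eq', Finset.mem_univ, if_true,
    map_zero] at h1
  exact h1

omit [Nontrivial A] in
theorem eq_zero_of_aeval {v : A} {g : K[X]} (h : aeval v g = 0) (hd : g.natDegree < (minpoly K v).natDegree) :
    g = 0 :=
  eq_zero_of_dvd_of_natDegree_lt (minpoly.dvd K v h) hd

theorem pow_natDegree (v : A) :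
    v ^ (minpoly K v).natDegree = -∑ j : Fin (minpoly K v).natDegree, (minpoly K v).coeff j • v ^ (j : ℕ) := by
  have h := minpoly.aeval K v
  rw [aeval_eq_sum_range, Finset.sum_range_succ, (minpoly.monic (Algebra.IsIntegral.isIntegral v)).coeff_natDegree,
    one_smul, ← Fin.sum_univ_eq_sum_range (fun j => (minpoly K v).coeff j • v ^ j)] at h
  exact eq_neg_of_add_eq_zero_right h

/-- The minimal polynomial of an additive coordinate is additive. -/
theorem additive_of_aeval (h : aeval (v ⊗ₜ[K] (1 : A) + (1 : A) ⊗ₜ[K] v) (minpoly K v) = 0)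
    {R : Type u} [CommRing R] [Algebra K R] (w z : R) :
    aeval (w + z) (minpoly K v) = aeval w (minpoly K v) + aeval z (minpoly K v) := by
  let f := minpoly K v
  let n := f.natDegree
  have hn : 0 < n := minpoly_natDegree_pos v
  have hmon : f.Monic := minpoly.monic (Algebra.IsIntegral.isIntegral v)
  have hD : hasseDeriv n f = 1 := by
    rw [hasseDeriv_natDegree_eq_C, hmon.leadingCoeff, C_1]
  have haev : ∀ g : K[X], aeval (v ⊗ₜ[K] (1 : A)) g = aeval v g ⊗ₜ[K] (1 : A) := fun g =>
    aeval_algHom_apply (Algebra.TensorProduct.includeLeft (R := K) (S := K) (A := A) (B := A)) v g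
  have hsum : ∑ j : Fin n, (aeval v (hasseDeriv j f) - f.coeff j • (1 : A)) ⊗ₜ[K] (v ^ (j : ℕ)) = 0 := by
    have h' := h
    rw [aeval_add_eq, Finset.sum_range_succ, ← Fin.sum_univ_eq_sum_range (fun j =>
      aeval (v ⊗ₜ[K] (1 : A)) (hasseDeriv j f) * ((1 : A) ⊗ₜ[K] v) ^ j)] at h'
    simp only [haev, Algebra.TensorProduct.tmul_pow, Algebra.TensorProduct.tmul_mul_tmul, one_pow, one_mul,
      mul_one] at h'
    rw [show hasseDeriv (minpoly K v).natDegree (minpoly K v) = 1 from hD, map_one, pow_natDegree,
      TensorProduct.tmul_neg, TensorProduct.tmul_sum] at h'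
    simp only [TensorProduct.sub_tmul, Finset.sum_sub_distrib, TensorProduct.smul_tmul]
    rw [sub_eq_add_neg]
    exact h'
  have hc := coeff_eq_zero v _ hsum
  have h0 : f.coeff 0 = 0 := by
    have := hc ⟨0, hn⟩
    simp only [hasseDeriv_zero', show aeval v f = 0 from minpoly.aeval K v, zero_sub, neg_eq_zero,
      smul_eq_zero, one_ne_zero, or_false] at this
    exact this
  have hj : ∀ j, 0 < j → j ≤ n → hasseDeriv j f = C (f.coeff j) := by
    intro j hj0 hjn
    rcases hjn.lt_or_eq with hlt | rfl
    · rw [← sub_eq_zero]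
      refine eq_zero_of_aeval (v := v) ?_ ?_
      · rw [map_sub, aeval_C, Algebra.algebraMap_eq_smul_one]
        exact hc ⟨j, hlt⟩
      · rw [natDegree_sub_C]
        exact lt_of_le_of_lt (natDegree_hasseDeriv_le f j) (show f.natDegree - j < f.natDegree by omega)
    · rw [hD, hmon.coeff_natDegree, C_1]
  rw [aeval_add_eq, Finset.sum_range_succ', pow_zero, mul_one, hasseDeriv_zero', add_comm, aeval_eq_sum_range (p := f) (x := z),
    Finset.sum_range_succ']
  congr 1
  rw [h0, zero_smul, add_zero]
  refine Finset.sum_congr rfl fun j hjm => ?_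
  rw [hj (j + 1) (Nat.succ_pos j) (Finset.mem_range.1 hjm), aeval_C, Algebra.smul_def]

/-- The minimal polynomial of a multiplicative coordinate is `X ^ n - 1`. -/
theorem eq_pow_sub_one (hv : IsUnit v) (h : aeval (v ⊗ₜ[K] v) (minpoly K v) = 0) :
    minpoly K v = X ^ (minpoly K v).natDegree - 1 := by
  let f := minpoly K v
  let n := f.natDegree
  have hn : 0 < n := minpoly_natDegree_pos v
  have hmon : f.Monic := minpoly.monic (Algebra.IsIntegral.isIntegral v)
  have hsum : ∑ j : Fin n, (f.coeff j • v ^ (j : ℕ) - f.coeff j • v ^ n) ⊗ₜ[K] (v ^ (j : ℕ)) = 0 := by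
    have h' := h
    rw [aeval_eq_sum_range, Finset.sum_range_succ, hmon.coeff_natDegree, one_smul,
      ← Fin.sum_univ_eq_sum_range (fun j => (minpoly K v).coeff j • (v ⊗ₜ[K] v) ^ j)] at h'
    simp only [Algebra.TensorProduct.tmul_pow] at h'
    conv at h' => lhs; arg 2; arg 3; rw [pow_natDegree]
    rw [TensorProduct.tmul_neg, TensorProduct.tmul_sum] at h'
    simp only [TensorProduct.sub_tmul, Finset.sum_sub_distrib, TensorProduct.smul_tmul']
    rw [sub_eq_add_neg]
    simpa only [TensorProduct.tmul_smul, TensorProduct.smul_tmul'] using h'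
  have h0 := coeff_eq_zero v _ hsum ⟨0, hn⟩
  have hc0 : f.coeff 0 ≠ 0 := by
    intro hz
    obtain ⟨g, hg⟩ := X_dvd_iff.2 hz
    have hgv : aeval v g = 0 := by
      have := minpoly.aeval K v
      rw [show minpoly K v = X * g from hg, map_mul, aeval_X] at this
      exact hv.mul_right_eq_zero.1 this
    have hg0 : g = 0 := eq_zero_of_aeval hgv (by
      rw [show minpoly K v = X * g from hg]
      rcases eq_or_ne g 0 with rfl | hne
      · rw [mul_zero, natDegree_zero]; exact absurd (hg.trans (mul_zero X)) hmon.ne_zero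
      · rw [natDegree_mul X_ne_zero hne, natDegree_X]; omega)
    exact hmon.ne_zero (by rw [show f = X * g from hg, hg0, mul_zero])
  have hvn : v ^ n = 1 := by
    have : f.coeff 0 • ((1 : A) - v ^ n) = 0 := by
      rw [smul_sub]; simpa only [pow_zero] using h0
    exact (sub_eq_zero.1 ((smul_eq_zero.1 this).resolve_left hc0)).symm
  have hmon' : (X ^ n - 1 : K[X]).Monic := by
    rw [← C_1]; exact monic_X_pow_sub_C _ hn.ne'
  refine eq_of_monic_of_dvd_of_natDegree_le hmon hmon' (minpoly.dvd K v (by simp [hvn])) ?_ |>.symm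
  rw [← C_1, natDegree_X_pow_sub_C]

end Groth.L15.FinSub
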